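import Groth.Agent.S5630
import Groth.Agent.Lib.SchColim29.RpushPerfect
import Groth.Agent.Lib.DerivedOX.AmplitudeStalk
import Groth.Agent.Lib.DerivedOX.DualBidualPerfect
import Groth.Agent.Lib.DerivedOX.DualHomExists
import Groth.Agent.Lib.DerivedOX.ProjectionQCoh
import Groth.Agent.Lib.RightAdjTensor.Finite
import Groth.Agent.Lib.SchColim29.TensorVanish

/-!
# The direct image of the relative dualizing complex is the dual of `Rf_*O`
-/

set_option autoImplicit false
set_option linter.style.haveILetI false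
set_option linter.unusedSectionVars false

universe u

open CategoryTheory Limits AlgebraicGeometry HomologicalComplex

attribute [local instance] HasDerivedCategory.standard

namespace Groth.Agent.Lib.H15.RelDual.Basic

open Groth.Agent.Lib Groth.Agent.Lib.DerivedOX

/-- A tensor product of complexes vanishes where all its summands do. -/
theorem isZero_tensor_X {X : Scheme.{u}} (A B : CochainComplex X.Modules ℤ) (n : ℤ)
    (h : ∀ p q, p + q = n → IsZero (A.X p) ∨ IsZero (B.X q)) :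
    IsZero (((DCoh.tensorCx.obj A).obj B).X n) := by
  rw [IsZero.iff_id_eq_zero]
  refine mapBifunctor.hom_ext fun p q hpq => IsZero.eq_of_src ?_ _ _
  change p + q = n at hpq
  rcases h p q hpq with hz | hz
  · exact ((DCoh.tensorBi (X := X)).flip.obj (B.X q)).map_isZero hz
  · exact ((DCoh.tensorBi (X := X)).obj (A.X p)).map_isZero hz

/-- The dual of a perfect object of flat amplitude in `[0, b]` lives in degrees `≤ 0`. -/
theorem isLE_dual {Y : Scheme.{u}} {P : CochainComplex Y.Modules ℤ} (hP : DCoh.IsKFlat P)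
    (hperf : DCoh.IsPerfect (DerivedCategory.Q.obj P)) [DCoh.HasLTensorCx P] [DCoh.HasRSheafHom P]
    (b : ℤ) (hamp : DCoh.HasFlatAmplitudeIn 0 b (DerivedCategory.Q.obj P)) :
    ((DCoh.RSheafHom P).obj (DCoh.inD Y (Coh.structureModule Y))).IsLE 0 := by
  obtain ⟨F, hFz, hFflat, ⟨eF⟩⟩ := hamp
  have hFk : DCoh.IsKFlat F := Amplitude.isKFlat_of_bounded F b (fun i hi => hFz i (Or.inr hi)) hFflat
  obtain ⟨J₀, hp, ⟨e⟩⟩ := DualMain.exists_dual hP (𝟙 P) hperf
  let D := (KFlat.res Y).obj ((DualHom.Hc P).obj J₀)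
  haveI : QuasiIso ((KFlat.aug Y).app ((DualHom.Hc P).obj J₀)) := KFlat.quasiIso_aug _
  let eD : DerivedCategory.Q.obj D ≅ (DCoh.RSheafHom P).obj (DCoh.inD Y (Coh.structureModule Y)) :=
    asIso (DerivedCategory.Q.map ((KFlat.aug Y).app ((DualHom.Hc P).obj J₀))) ≪≫ e
  have hD : DCoh.IsKFlat D := KFlat.isKFlat_res _
  haveI := LeftExists.hasLTensorCx D
  haveI := LeftExists.hasLTensorCx F
  haveI := DualHomExists.hasRSheafHom D
  obtain ⟨bd⟩ := DualBidualPerfect.nonempty_dual_dual hD hperf eD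
  have hDp : DCoh.IsPerfect (DerivedCategory.Q.obj D) :=
    Perfect.Triangle.isPerfect_of_iso (asIso (DerivedCategory.Q.map
      ((KFlat.aug Y).app ((DualHom.Hc P).obj J₀)))).symm hp
  suffices hDle : DerivedCategory.IsLE (DerivedCategory.Q.obj D) 0 from
    DerivedCategory.TStructure.t.isLE_of_iso eD 0
  refine (DerivedCategory.TStructure.t.isLE_iff_orthogonal 0 1 rfl _).2 fun Z f hZ => ?_
  haveI : DerivedCategory.IsGE Z 1 := hZ
  obtain ⟨G, hG, ⟨eG⟩⟩ := DerivedCategory.exists_iso_Q_obj_of_isGE Z 1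
  obtain ⟨i₀⟩ := DualMain.nonempty_LTensorCx_iso_RSheafHom hD (𝟙 D) hDp F
    (eF ≪≫ bd.symm) Z
  haveI := DualCompare.isIso_counit hFk G
  let i₁ : (DCoh.RSheafHom D).obj Z ≅ DerivedCategory.Q.obj ((DCoh.tensorCx.obj G).obj F) :=
    i₀.symm ≪≫ (DCoh.LTensorCx F).mapIso eG ≪≫
      asIso (((DCoh.tensorCxQ F).totalLeftDerivedCounit DerivedCategory.Q
        (HomologicalComplex.quasiIso Y.Modules (.up ℤ))).app G)
  haveI hGF : ((DCoh.tensorCx.obj G).obj F).IsStrictlyGE 1 :=
    (CochainComplex.isStrictlyGE_iff _ 1).2 fun n hn => isZero_tensor_X G F n fun p q hpq => by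
      by_cases hp : p < 1
      · exact Or.inl (G.isZero_of_isStrictlyGE 1 p hp)
      · exact Or.inr (hFz q (Or.inl (by omega)))
  haveI : DerivedCategory.IsGE (DerivedCategory.Q.obj ((DCoh.tensorCx.obj G).obj F)) 1 := inferInstance
  haveI : DerivedCategory.IsLE ((DerivedCategory.singleFunctor Y.Modules 0).obj (Coh.structureModule Y)) 0 :=
    inferInstance
  -- maps out of `D` are maps out of `O` into `Z ⊗ P`
  have hflat : DCoh.IsKFlat (DualFree.one Y) := GammaAcyclic.isKFlat_single (fun x =>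
    Module.Flat.of_linearEquiv (BettiExact.TorComp.stalkUnitEquiv Y x)) 0
  haveI := TensorCoprod.isIso_counit_app_of_isKFlat D (DCoh.LTensorCx D)
    ((DCoh.tensorCxQ D).totalLeftDerivedCounit DerivedCategory.Q
      (HomologicalComplex.quasiIso Y.Modules (.up ℤ))) hflat
  let u : (DCoh.LTensorCx D).obj (DerivedCategory.Q.obj (DualFree.one Y)) ≅ DerivedCategory.Q.obj D :=
    asIso (((DCoh.tensorCxQ D).totalLeftDerivedCounit DerivedCategory.Q
        (HomologicalComplex.quasiIso Y.Modules (.up ℤ))).app (DualFree.one Y)) ≪≫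
      DerivedCategory.Q.mapIso (DualBidual.commCx (DualFree.one Y) D) ≪≫
      DerivedCategory.Q.mapIso (DualFree.unitIso.app D).symm
  have h0 : ((DCoh.RSheafHomAdj D).homEquiv _ Z (u.hom ≫ f)) ≫ i₁.hom = 0 := by
    refine (cancel_epi ((DerivedCategory.singleFunctorIsoCompQ Y.Modules 0).app _).hom).1 ?_
    refine Eq.trans ?_ comp_zero.symm
    exact DerivedCategory.TStructure.t.zero_of_isLE_of_isGE _ 0 1 (by omega)
      (inferInstanceAs (DerivedCategory.IsLE _ 0)) (inferInstanceAs (DerivedCategory.IsGE _ 1))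
  have h1 : (DCoh.RSheafHomAdj D).homEquiv _ Z (u.hom ≫ f) = 0 := by
    rw [← cancel_mono i₁.hom, h0, zero_comp]
  have hz : (DCoh.RSheafHomAdj D).homEquiv (DerivedCategory.Q.obj (DualFree.one Y)) Z 0 = 0 := by
    rw [Adjunction.homEquiv_unit, Functor.map_zero, comp_zero]
  have h2 : u.hom ≫ f = 0 := ((DCoh.RSheafHomAdj D).homEquiv _ Z).injective (h1.trans hz.symm)
  exact (cancel_epi u.hom).1 (h2.trans comp_zero.symm)

/-- `Rf_* a(O) ≅ RHom(Rf_*O, O)` and it lives in degrees `≤ 0`. -/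
theorem isLE_Rpush_rightAdjoint {X Y : Scheme.{u}} [CompactSpace Y] [QuasiSeparatedSpace Y]
    (f : X ⟶ Y) [IsProper f] [Flat f] [LocallyOfFinitePresentation f] [DCoh.HasRpush f]
    (hf : DCoh.RpushPreservesQCoh f) (a : DCoh.DQCoh Y ⥤ DCoh.DQCoh X)
    (adj : DCoh.RpushQ f hf ⊣ a) (O : DCoh.DQCoh Y)
    (eO : O.obj ≅ DCoh.inD Y (Coh.structureModule Y)) :
    (((DCoh.RpushQ f hf).obj (a.obj O)).obj).IsLE 0 := by
  haveI := LeftExists.hasLpull f
  obtain ⟨I, s, hI, hs⟩ := DerCat.KInjExists.hasKInjRes (DualFree.one X)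
  haveI := hI
  haveI := hs
  let eI : DerivedCategory.Q.obj I ≅ DCoh.inD X (Coh.structureModule X) :=
    (asIso (DerivedCategory.Q.map s)).symm ≪≫
      ((DerivedCategory.singleFunctorIsoCompQ X.Modules 0).app _).symm
  let B := (KFlat.res Y).obj ((GammaAcyclic.pushC f).obj I)
  let g : B ⟶ (GammaAcyclic.pushC f).obj I := (KFlat.aug Y).app _
  haveI : QuasiIso g := KFlat.quasiIso_aug _
  have hB : DCoh.IsKFlat B := KFlat.isKFlat_res _
  haveI := LeftExists.hasLTensorCx B
  haveI := LeftExists.hasLTensorCx I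
  haveI := DualHomExists.hasRSheafHom B
  haveI := UnitCx.isIso_unitCx_of_isKInjective f I
  let eB : DerivedCategory.Q.obj B ≅ (DCoh.Rpush f).obj (DCoh.inD X (Coh.structureModule X)) :=
    asIso (DerivedCategory.Q.map g) ≪≫ asIso ((UnitCx.unitCx f).app I) ≪≫
      (DCoh.Rpush f).mapIso eI
  have hO1 : DCoh.IsPerfect (DCoh.inD X (Coh.structureModule X)) := Gen43.Affine.isPerfect_oneD' X
  have hBp : DCoh.IsPerfect (DerivedCategory.Q.obj B) :=
    Perfect.Triangle.isPerfect_of_iso eB.symm (SchColim29.RpushPerfect.isPerfect_Rpush f hO1)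
  have hIq : DCoh.IsQCohD (DerivedCategory.Q.obj I) :=
    Perfect.QCohD.isQCohD_of_isPerfect (Perfect.Triangle.isPerfect_of_iso eI.symm hO1)
  -- amplitude of `Rf_*O`
  obtain ⟨N, hN⟩ := SchColim29.RpushTor.exists_bound f
  have hOq : DCoh.IsQCohD (DCoh.inD X (Coh.structureModule X)) := Perfect.QCohD.isQCohD_of_isPerfect hO1
  haveI hO0 : DerivedCategory.IsLE (DCoh.inD X (Coh.structureModule X)) 0 := inferInstance
  haveI hRle : DerivedCategory.IsLE ((DCoh.Rpush f).obj (DCoh.inD X (Coh.structureModule X))) (0 + N) :=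
    hN _ 0 hOq hO0
  let e1 : DCoh.toD X (DualFree.one X) ≅ DCoh.inD X (Coh.structureModule X) :=
    ((DerivedCategory.singleFunctorIsoCompQ X.Modules 0).app _).symm
  have hamp : DCoh.HasTorAmplitudeIn 0 (0 + N) ((DCoh.Rpush f).obj (DCoh.inD X (Coh.structureModule X))) := by
    intro G _ i hi
    rcases hi with hi | hi
    · refine (S5630.isZero_ltensorMod_Rpush f (DualFree.one X)
        (Perfect.QCohD.isQCohD_of_isPerfect (Perfect.Triangle.isPerfect_of_iso e1.symm hO1))
        (SchColim29.RpushPerfFlat.torAmp_single f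
          (SchColim29.ProperFlatPerfect.isFlatOver_of_isFlat f SchColim29.TensorVanish.isFlat_structureModule))
        G i hi).of_iso ?_
      exact (DerivedCategory.homologyFunctor Y.Modules i).mapIso
        ((DCoh.LTensorMod G).mapIso ((DCoh.Rpush f).mapIso e1.symm))
    · exact S5630.isZero_ltensorMod_of_isLE _ (0 + N) G i hi
  obtain ⟨F, hFz, hFf, ⟨eF⟩⟩ := Amplitude.flatAmp_of_torAmp (by omega)
    (fun G => LeftExists.hasLTensorMod G) hamp
  have hle := isLE_dual hB hBp (0 + N) ⟨F, hFz, hFf, ⟨eF ≪≫ eB.symm⟩⟩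
  -- the two functors `M ↦ Hom(M, -)`
  obtain ⟨v⟩ := RightAdjTensor.Finite.nonempty_tensorUnit I s
  let ιX := ObjectProperty.ι (DCoh.IsQCohD (X := X))
  let ιY := ObjectProperty.ι (DCoh.IsQCohD (X := Y))
  haveI : ∀ K : DCoh.DQCoh Y, IsIso ((ProjectionMap.projMap f g).app K.obj) := fun K =>
    ProjectionQCoh.isIso_projMap_of_isQCohD (f := f) (g := g) hIq K.property
  haveI : IsIso (Functor.whiskerLeft ιY (ProjectionMap.projMap f g)) := by
    haveI : ∀ K, IsIso ((Functor.whiskerLeft ιY (ProjectionMap.projMap f g)).app K) := fun K =>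
      inferInstanceAs (IsIso ((ProjectionMap.projMap f g).app K.obj))
    exact NatIso.isIso_of_isIso_app _
  let p : ιY ⋙ DCoh.Lpull f ⋙ DCoh.Rpush f ≅ ιY ⋙ DCoh.LTensorCx B :=
    Functor.isoWhiskerLeft ιY (Functor.isoWhiskerLeft (DCoh.Lpull f)
      ((Functor.leftUnitor _).symm ≪≫ Functor.isoWhiskerRight v.symm (DCoh.Rpush f))) ≪≫
    (asIso (Functor.whiskerLeft ιY (ProjectionMap.projMap f g))).symm
  have hDq : DCoh.IsQCohD ((DCoh.RSheafHom B).obj O.obj) :=
    DualMain.isQCohD_RSheafHom hB (𝟙 B) hBp O.property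
  let T : DCoh.DQCoh Y ⥤ DCoh.DQCoh X := ObjectProperty.lift _ (ιY ⋙ DCoh.Lpull f) fun M =>
    QCohLocal.isQCohD_Lpull f M.property
  let fX := ObjectProperty.fullyFaithfulι (DCoh.IsQCohD (X := X))
  let fY := ObjectProperty.fullyFaithfulι (DCoh.IsQCohD (X := Y))
  let dA := PullPushAdj.derivedAdjunction f
  let φ : ∀ M : DCoh.DQCoh Y, (M ⟶ (DCoh.RpushQ f hf).obj (a.obj O)) ≃
      (M ⟶ (⟨(DCoh.RSheafHom B).obj O.obj, hDq⟩ : DCoh.DQCoh Y)) := fun M =>
    (((((fY.homEquiv (X := M) (Y := (DCoh.RpushQ f hf).obj (a.obj O))).trans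
      (dA.homEquiv M.obj (a.obj O).obj).symm).trans
      (fX.homEquiv (X := T.obj M) (Y := a.obj O)).symm).trans
      ((adj.homEquiv (T.obj M) O).symm.trans fY.homEquiv)).trans
      (Iso.homCongr (p.app M) (Iso.refl O.obj))).trans
      (((DCoh.RSheafHomAdj B).homEquiv M.obj O.obj).trans
        (fY.homEquiv (X := M) (Y := ⟨(DCoh.RSheafHom B).obj O.obj, hDq⟩)).symm)
  let C : (DCoh.RpushQ f hf).obj (a.obj O) ≅ (⟨(DCoh.RSheafHom B).obj O.obj, hDq⟩ : DCoh.DQCoh Y) :=
    Yoneda.ext _ _ (fun {Z} => φ Z) (fun {Z} => (φ Z).symm)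
      (fun {Z} g => (φ Z).symm_apply_apply g) (fun {Z} g => (φ Z).apply_symm_apply g) (by
    intro Z Z' h x
    apply fY.homEquiv.injective
    simp only [φ, Equiv.trans_apply, Equiv.apply_symm_apply]
    change (DCoh.RSheafHomAdj B).homEquiv Z'.obj _ (p.inv.app Z' ≫ ((adj.homEquiv (T.obj Z') O).symm
        (fX.homEquiv.symm ((dA.homEquiv Z'.obj _).symm (h.hom ≫ x.hom)))).hom ≫ 𝟙 _) =
      h.hom ≫ (DCoh.RSheafHomAdj B).homEquiv Z.obj _ (p.inv.app Z ≫ ((adj.homEquiv (T.obj Z) O).symm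
        (fX.homEquiv.symm ((dA.homEquiv Z.obj _).symm x.hom))).hom ≫ 𝟙 _)
    rw [Adjunction.homEquiv_naturality_left_symm, ← Adjunction.homEquiv_naturality_left]
    refine congrArg _ ?_
    have hn := p.inv.naturality h
    change (DCoh.LTensorCx B).map h.hom ≫ _ = _ ≫ (DCoh.Rpush f).map ((DCoh.Lpull f).map h.hom) at hn
    simp only [Category.comp_id]
    erw [reassoc_of% hn]
    refine congrArg (_ ≫ ·) ?_
    exact congrArg InducedCategory.Hom.hom (adj.homEquiv_naturality_left_symm (T.map h) _))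
  exact DerivedCategory.TStructure.t.isLE_of_iso
    ((ObjectProperty.ι _).mapIso C ≪≫ (DCoh.RSheafHom B).mapIso eO).symm 0

end Groth.Agent.Lib.H15.RelDual.Basic
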